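import Groth.Agent.FlatMisc.FibreIsoLocus
import Mathlib

/-! A morphism of finite flat schemes over a Noetherian base is an isomorphism if it is one in codimension at most one. -/

set_option autoImplicit false
universe u

namespace Groth.Agent.CodimOneIso7

section Algebra

variable {R M N : Type*} [CommRing R] [AddCommGroup M] [AddCommGroup N] [Module R M] [Module R N]

/-- Invertible up to a power of `g`. -/
def InvAway (φ : M →ₗ[R] N) (g : R) : Prop :=
  (∀ n, ∃ m, ∃ k : ℕ, φ m = g ^ k • n) ∧ ∀ m, φ m = 0 → ∃ k : ℕ, g ^ k • m = 0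

theorem exists_almost_inverse [Module.Finite R M] [Module.Finite R N] [Module.Free R N] {φ : M →ₗ[R] N} {g : R}
    (h : InvAway φ g) :
    ∃ (ψ : N →ₗ[R] M) (K : ℕ), φ ∘ₗ ψ = g ^ K • LinearMap.id ∧ ψ ∘ₗ φ = g ^ K • LinearMap.id := by
  classical
  let b := Module.Free.chooseBasis R N
  choose m k hm using fun i => h.1 (b i)
  let K := Finset.univ.sup k
  let ψ : N →ₗ[R] M := b.constr R fun i => g ^ (K - k i) • m i
  have h1 : φ ∘ₗ ψ = g ^ K • LinearMap.id := b.ext fun i => by
    show φ (ψ (b i)) = g ^ K • b i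
    rw [b.constr_basis, map_smul, hm, smul_smul, ← pow_add, Nat.sub_add_cancel (Finset.le_sup (Finset.mem_univ i))]
  let T : M →ₗ[R] M := ψ ∘ₗ φ - g ^ K • LinearMap.id
  obtain ⟨l, hl⟩ : ∃ l, ∀ x, g ^ l • T x = 0 := by
    obtain ⟨s, hs⟩ := Module.Finite.fg_top (R := R) (M := M)
    choose e he using fun x => h.2 (T x) (by
      show φ (ψ (φ x) - g ^ K • x) = 0
      rw [map_sub, map_smul, show φ (ψ (φ x)) = g ^ K • φ x from LinearMap.congr_fun h1 _, sub_self])
    refine ⟨s.sup e, fun x => ?_⟩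
    have hx : x ∈ Submodule.span R (s : Set M) := hs ▸ Submodule.mem_top
    induction hx using Submodule.span_induction with
    | mem y hy =>
      obtain ⟨d, hd⟩ := Nat.exists_eq_add_of_le (Finset.le_sup (f := e) hy)
      rw [hd, add_comm, pow_add, mul_smul, he, smul_zero]
    | zero => simp
    | add a c _ _ ha hc => rw [map_add, smul_add, ha, hc, add_zero]
    | smul r a _ ha => rw [map_smul, smul_comm, ha, smul_zero]
  refine ⟨g ^ l • ψ, l + K, ?_, ?_⟩
  · rw [LinearMap.comp_smul, h1, smul_smul, ← pow_add]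
  · ext x
    have := hl x
    simp only [T, LinearMap.sub_apply, LinearMap.comp_apply, LinearMap.smul_apply, LinearMap.id_apply, smul_sub,
      sub_eq_zero] at this
    simpa [smul_smul, ← pow_add] using this

theorem card_le_of_almost_inverse {ι κ S : Type*} [Fintype ι] [Fintype κ] [DecidableEq ι] [CommRing S] [IsDomain S]
    {A : Matrix κ ι S} {B : Matrix ι κ S} {c : S} (hc : c ≠ 0) (h : B * A = c • 1) :
    Fintype.card ι ≤ Fintype.card κ := by
  refine card_le_of_injective S A.mulVecLin ((injective_iff_map_eq_zero _).2 fun v hv => ?_)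
  have hv' : A.mulVec v = 0 := hv
  have := congrArg (fun X : Matrix ι ι S => X.mulVec v) h
  simp only [← Matrix.mulVec_mulVec, hv', Matrix.mulVec_zero, Matrix.smul_mulVec, Matrix.one_mulVec] at this
  exact (smul_eq_zero.1 this.symm).resolve_left hc

/-- Over a Noetherian local ring a map of finite free modules invertible in codimension at most one is invertible. -/
theorem bijective_of_free [IsLocalRing R] [IsNoetherianRing R] [Module.Finite R M] [Module.Free R M]
    [Module.Finite R N] [Module.Free R N] (φ : M →ₗ[R] N)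
    (h : ∀ (p : Ideal R) [p.IsPrime], p.height ≤ 1 → ∃ g ∉ p, InvAway φ g) : Function.Bijective φ := by
  classical
  let bM := Module.Free.chooseBasis R M
  let bN := Module.Free.chooseBasis R N
  let A := LinearMap.toMatrix bM bN φ
  have hp : ∀ (p : Ideal R) [p.IsPrime], p.height ≤ 1 → ∃ c ∉ p, ∃ B : Matrix (Module.Free.ChooseBasisIndex R M) (Module.Free.ChooseBasisIndex R N) R, A * B = c • 1 ∧ B * A = c • 1 := fun p _ hh => by
    obtain ⟨g, hg, hinv⟩ := h p hh
    obtain ⟨ψ, K, h1, h2⟩ := exists_almost_inverse hinv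
    refine ⟨g ^ K, fun hm => hg (Ideal.IsPrime.mem_of_pow_mem ‹_› K hm), LinearMap.toMatrix bN bM ψ, ?_, ?_⟩
    · rw [← LinearMap.toMatrix_comp bN bM bN, h1, map_smul, LinearMap.toMatrix_id]
    · rw [← LinearMap.toMatrix_comp bM bN bM, h2, map_smul, LinearMap.toMatrix_id]
  obtain ⟨q, hq⟩ := (Ideal.nonempty_minimalPrimes (I := (⊥ : Ideal R)) bot_ne_top)
  haveI : q.IsPrime := hq.1.1
  obtain ⟨c, hc, B, h1, h2⟩ := hp q (le_of_eq_of_le (Ideal.height_eq_zero_iff.2 hq) zero_le)
  have hc0 : Ideal.Quotient.mk q c ≠ 0 := fun e => hc (Ideal.Quotient.eq_zero_iff_mem.1 e)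
  let π := Ideal.Quotient.mk q
  have hcard : Fintype.card (Module.Free.ChooseBasisIndex R M) = Fintype.card (Module.Free.ChooseBasisIndex R N) :=
    le_antisymm (card_le_of_almost_inverse (A := A.map π) (B := B.map π) hc0 (by
        rw [← Matrix.map_mul, h2, Matrix.map_smul' _ _ _ (map_mul π), Matrix.map_one _ (map_zero π) (map_one π)]))
      (card_le_of_almost_inverse (A := B.map π) (B := A.map π) hc0 (by
        rw [← Matrix.map_mul, h1, Matrix.map_smul' _ _ _ (map_mul π), Matrix.map_one _ (map_zero π) (map_one π)]))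
  let bN' := bN.reindex (Fintype.equivOfCardEq hcard).symm
  let D := LinearMap.toMatrix bM bN' φ
  have hu : IsUnit D.det := by
    by_contra hnu
    obtain ⟨p, hpm⟩ := Ideal.nonempty_minimalPrimes (I := Ideal.span {D.det})
      (fun e => hnu (Ideal.span_singleton_eq_top.1 e))
    haveI : p.IsPrime := hpm.1.1
    obtain ⟨g, hg, hinv⟩ := h p (Ideal.height_le_one_of_isPrincipal_of_mem_minimalPrimes _ p hpm)
    obtain ⟨ψ, K, h1', -⟩ := exists_almost_inverse hinv
    have hd : D.det * (LinearMap.toMatrix bN' bM ψ).det = (g ^ K) ^ Fintype.card (Module.Free.ChooseBasisIndex R M) := by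
      rw [← Matrix.det_mul, ← LinearMap.toMatrix_comp bN' bM bN', h1', map_smul, LinearMap.toMatrix_id, Matrix.det_smul,
        Matrix.det_one, mul_one]
    refine hg (Ideal.IsPrime.mem_of_pow_mem ‹_› K (Ideal.IsPrime.mem_of_pow_mem ‹_› (Fintype.card (Module.Free.ChooseBasisIndex R M)) ?_))
    rw [← hd]
    exact p.mul_mem_right _ (hpm.1.2 (Ideal.mem_span_singleton_self _))
  let e := LinearEquiv.ofIsUnitDet (f := φ) (v := bM) (v' := bN') hu
  exact e.bijective

/-- A map of finite flat modules invertible in codimension at most one is invertible. -/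
theorem bijective_of_flat [IsNoetherianRing R] [Module.Finite R M] [Module.Flat R M]
    [Module.Finite R N] [Module.Flat R N] (φ : M →ₗ[R] N)
    (h : ∀ (p : Ideal R) [p.IsPrime], p.height ≤ 1 → ∃ g ∉ p, InvAway φ g) : Function.Bijective φ := by
  refine bijective_of_localized_maximal φ fun m hm => ?_
  let L := Localization m.primeCompl
  haveI : IsLocalRing L := (inferInstance : IsLocalRing (Localization.AtPrime m))
  haveI : Module.Free L (LocalizedModule m.primeCompl M) := Module.free_of_flat_of_isLocalRing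
  haveI : Module.Free L (LocalizedModule m.primeCompl N) := Module.free_of_flat_of_isLocalRing
  refine bijective_of_free (R := L) (LocalizedModule.map m.primeCompl φ) fun p _ hp => ?_
  obtain ⟨g, hg, h1, h2⟩ := h (p.under R) (by rw [IsLocalization.height_under m.primeCompl p]; exact hp)
  refine ⟨algebraMap R L g, hg, fun x => ?_, fun x hx => ?_⟩
  · induction x using LocalizedModule.induction_on with
    | h n s =>
      obtain ⟨a, k, hk⟩ := h1 n
      refine ⟨LocalizedModule.mk a s, k, ?_⟩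
      rw [LocalizedModule.map_mk, hk, ← map_pow, algebraMap_smul, LocalizedModule.smul'_mk]
  · induction x using LocalizedModule.induction_on with
    | h a s =>
      rw [LocalizedModule.map_mk, ← LocalizedModule.zero_mk s, LocalizedModule.mk_eq] at hx
      obtain ⟨u, hu⟩ := hx
      obtain ⟨k, hk⟩ := h2 ((u : R) • (s : R) • a) (by
        rw [map_smul, map_smul]; simpa [Submonoid.smul_def] using hu)
      refine ⟨k, ?_⟩
      rw [← map_pow, algebraMap_smul, LocalizedModule.smul'_mk, ← LocalizedModule.zero_mk s, LocalizedModule.mk_eq]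
      refine ⟨u, ?_⟩
      simp only [Submonoid.smul_def, smul_zero]
      rw [smul_comm (s : R) (g ^ k), smul_comm (u : R) (g ^ k)]
      exact hk

end Algebra

open CategoryTheory Limits AlgebraicGeometry TopologicalSpace

theorem lfp_of_lft {X S : Scheme.{u}} (f : X ⟶ S) [IsLocallyNoetherian S] [LocallyOfFiniteType f] :
    LocallyOfFinitePresentation f := by
  rw [HasRingHomProperty.iff_appLE (P := @LocallyOfFinitePresentation)]
  intro U V e
  haveI := IsLocallyNoetherian.component_noetherian U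
  exact RingHom.FinitePresentation.of_finiteType.1 (HasRingHomProperty.appLE @LocallyOfFiniteType f ‹_› U V e)

/-- The prime of a point of an affine open has height the dimension of the local ring. -/
theorem ringKrullDim_stalk_eq {S : Scheme.{u}} {U : S.Opens} (hU : IsAffineOpen U) (s : S) (hs : s ∈ U) :
    ringKrullDim (S.presheaf.stalk s) = (hU.primeIdealOf ⟨s, hs⟩).asIdeal.height := by
  letI := (S.presheaf.germ U s hs).hom.toAlgebra
  haveI : IsLocalization.AtPrime (S.presheaf.stalk s) (hU.primeIdealOf ⟨s, hs⟩).asIdeal :=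
    hU.isLocalization_stalk ⟨s, hs⟩
  exact IsLocalization.AtPrime.ringKrullDim_eq_height _ _

theorem ringKrullDim_stalk_fromSpec {S : Scheme.{u}} {U : S.Opens} (hU : IsAffineOpen U) (p : PrimeSpectrum Γ(S, U)) :
    ringKrullDim (S.presheaf.stalk (hU.fromSpec p)) = p.asIdeal.height := by
  have hm : hU.fromSpec p ∈ U := hU.range_fromSpec.le ⟨p, rfl⟩
  rw [ringKrullDim_stalk_eq hU _ hm]
  congr 3
  exact hU.fromSpec.isOpenEmbedding.injective (hU.fromSpec_primeIdealOf ⟨_, hm⟩)

theorem isIso_app_of_le {X Y : Scheme.{u}} (f : X ⟶ Y) {D W : Y.Opens} (hDW : D ≤ W) (hW : IsIso (f ∣_ W)) :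
    IsIso (f.app D) := by
  haveI := hW
  have h : IsIso ((f ∣_ W).app (W.ι ⁻¹ᵁ D)) := inferInstance
  rw [morphismRestrict_app] at h
  have h' : IsIso (f.app (W.ι ''ᵁ (W.ι ⁻¹ᵁ D))) := @IsIso.of_isIso_comp_right _ _ _ _ _ _ _ (Functor.map_isIso _ _) h
  rwa [W.ι.image_preimage_eq_opensRange_inf, W.opensRange_ι, inf_eq_right.2 hDW] at h'

variable {S X X' : Scheme.{u}} [IsLocallyNoetherian S] (p : X ⟶ S) (p' : X' ⟶ S) (f : X' ⟶ X)

/-- Iso in codimension at most one implies iso. -/
theorem isIso_of_codimOne [IsFinite p] [Flat p] [IsFinite p'] [Flat p'] (hw : f ≫ p = p')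
    (h : ∀ s : S, ringKrullDim (S.presheaf.stalk s) ≤ 1 → ∃ W : S.Opens, s ∈ W ∧ IsIso (f ∣_ (p ⁻¹ᵁ W))) :
    IsIso f := by
  haveI : IsAffineHom (f ≫ p) := by rw [hw]; infer_instance
  haveI : IsAffineHom f := IsAffineHom.of_comp f p
  refine (IsZariskiLocalAtTarget.iff_of_iSup_eq_top (P := MorphismProperty.isomorphisms Scheme)
    (fun U : S.affineOpens => p ⁻¹ᵁ U.1) ?_).2 fun U => ?_
  · rw [← Scheme.Hom.preimage_iSup, iSup_affineOpens_eq_top S]; rfl
  obtain ⟨U, hU⟩ := U
  let V := p ⁻¹ᵁ U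
  have hV : IsAffineOpen V := hU.preimage p
  have hV' : IsAffineOpen (f ⁻¹ᵁ V) := hV.preimage f
  haveI : IsAffine V.toScheme := hV
  haveI : IsNoetherianRing Γ(S, U) := IsLocallyNoetherian.component_noetherian ⟨U, hU⟩
  have hUV' : f ⁻¹ᵁ V = p' ⁻¹ᵁ U := by rw [← hw]; rfl
  let α : Γ(S, U) →+* Γ(X, V) := (p.app U).hom
  let φ₀ : Γ(X, V) →+* Γ(X', f ⁻¹ᵁ V) := (f.app V).hom
  letI : Algebra Γ(S, U) Γ(X, V) := α.toAlgebra
  letI : Algebra Γ(S, U) Γ(X', f ⁻¹ᵁ V) := (φ₀.comp α).toAlgebra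
  have e' : p'.appLE U (f ⁻¹ᵁ V) hUV'.le = p.app U ≫ f.app V := by
    subst hw
    rw [Scheme.Hom.app_eq_appLE, Scheme.Hom.app_eq_appLE, Scheme.Hom.appLE_comp_appLE]
  have hfin' : (φ₀.comp α).Finite := by
    have := IsFinite.finite_app p' U hU
    have hr : (p'.appLE U (f ⁻¹ᵁ V) hUV'.le).hom.Finite := by
      subst hw
      rw [Scheme.Hom.app_eq_appLE] at this
      exact this
    rw [e'] at hr
    exact hr
  haveI : Module.Finite Γ(S, U) Γ(X, V) := IsFinite.finite_app p U hU
  haveI : Module.Finite Γ(S, U) Γ(X', f ⁻¹ᵁ V) := hfin'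
  haveI : Module.Flat Γ(S, U) Γ(X, V) := by
    have := HasRingHomProperty.appLE @Flat p ‹_› ⟨U, hU⟩ ⟨V, hV⟩ le_rfl
    rwa [← Scheme.Hom.app_eq_appLE] at this
  haveI : Module.Flat Γ(S, U) Γ(X', f ⁻¹ᵁ V) := by
    have := HasRingHomProperty.appLE @Flat p' ‹_› ⟨U, hU⟩ ⟨_, hV'⟩ hUV'.le
    rw [e'] at this
    exact this
  let φ : Γ(X, V) →ₐ[Γ(S, U)] Γ(X', f ⁻¹ᵁ V) := AlgHom.mk φ₀ (fun _ => rfl)
  have hbij : Function.Bijective φ := bijective_of_flat φ.toLinearMap fun q _ hq => by
    let s := hU.fromSpec ⟨q, inferInstance⟩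
    obtain ⟨W, hsW, hW⟩ := h s (by
      rw [ringKrullDim_stalk_fromSpec hU]; exact_mod_cast hq)
    have hsU : s ∈ U := hU.range_fromSpec.le ⟨_, rfl⟩
    obtain ⟨g, hgW, hsg⟩ := hU.exists_basicOpen_le ⟨s, hsW⟩ hsU
    refine ⟨g, fun hgq => ?_, ?_⟩
    · have := hU.fromSpec_preimage_basicOpen g
      have h2 : (⟨q, inferInstance⟩ : PrimeSpectrum Γ(S, U)) ∈ PrimeSpectrum.basicOpen g := by
        rw [← this]; exact hsg
      exact h2 hgq
    · let g₁ : Γ(X, V) := α g
      let D := X.basicOpen g₁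
      have hD : D = p ⁻¹ᵁ (S.basicOpen g) := (Scheme.preimage_basicOpen p g).symm
      have hDW : D ≤ p ⁻¹ᵁ W := hD ▸ Scheme.Hom.preimage_mono p hgW
      haveI := isIso_app_of_le f hDW hW
      have hb : Function.Bijective (f.app D).hom := ConcreteCategory.bijective_of_isIso (f.app D)
      have hD' : f ⁻¹ᵁ D = X'.basicOpen (φ₀ g₁) := Scheme.preimage_basicOpen f g₁
      haveI := hV.isLocalization_basicOpen g₁
      haveI := hV'.isLocalization_basicOpen (φ₀ g₁)
      let r₂ : Γ(X', f ⁻¹ᵁ V) →+* Γ(X', f ⁻¹ᵁ D) :=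
        (X'.presheaf.map (homOfLE (Scheme.Hom.preimage_mono f (X.basicOpen_le g₁))).op).hom
      let r₁ : Γ(X, V) →+* Γ(X, D) := (X.presheaf.map (homOfLE (X.basicOpen_le g₁)).op).hom
      have hnat : ∀ x, (f.app D).hom (r₁ x) = r₂ (φ₀ x) := fun x =>
        congrArg (fun t => t x) (congrArg CommRingCat.Hom.hom (f.naturality (homOfLE (X.basicOpen_le g₁)).op))
      have hr₂ : ∀ y, r₂ y = 0 → ∃ k : ℕ, φ₀ g₁ ^ k * y = 0 := fun y hy => by
        have h0 : algebraMap Γ(X', f ⁻¹ᵁ V) Γ(X', X'.basicOpen (φ₀ g₁)) y = 0 := by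
          show (X'.presheaf.map (homOfLE (X'.basicOpen_le (φ₀ g₁))).op).hom y = 0
          have : (X'.presheaf.map (homOfLE (X'.basicOpen_le (φ₀ g₁))).op) =
              X'.presheaf.map (homOfLE (Scheme.Hom.preimage_mono f (X.basicOpen_le g₁))).op ≫
                X'.presheaf.map (eqToHom hD'.symm).op := by
            rw [← Functor.map_comp]; rfl
          rw [this]
          exact (congrArg (X'.presheaf.map (eqToHom hD'.symm).op).hom hy).trans (map_zero _)
        obtain ⟨⟨_, k, rfl⟩, hk⟩ := (IsLocalization.map_eq_zero_iff (Submonoid.powers (φ₀ g₁)) _ y).1 h0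
        exact ⟨k, hk⟩
      have hgs : ∀ (k : ℕ) (y : Γ(X', f ⁻¹ᵁ V)), g ^ k • y = φ₀ g₁ ^ k * y := fun k y => by
        rw [Algebra.smul_def, map_pow]; rfl
      refine ⟨fun n => ?_, fun m hm => ?_⟩
      · obtain ⟨z, hz⟩ := hb.2 (r₂ n)
        obtain ⟨m, ⟨_, k, rfl⟩, hk⟩ := IsLocalization.exists_mk'_eq (Submonoid.powers g₁) z
        have h1 : z * r₁ (g₁ ^ k) = r₁ m := hk ▸ IsLocalization.mk'_spec _ _ _
        have h2 := congrArg (f.app D).hom h1
        rw [map_mul, hz, hnat, hnat, ← map_mul, ← sub_eq_zero, ← map_sub, map_pow] at h2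
        obtain ⟨l, hl⟩ := hr₂ _ h2
        refine ⟨g₁ ^ l * m, l + k, ?_⟩
        show φ₀ (g₁ ^ l * m) = _
        rw [hgs, map_mul, map_pow, pow_add]
        linear_combination -hl
      · have hm' : φ₀ m = 0 := hm
        have h0 : r₁ m = 0 := hb.1 (by rw [hnat, hm', map_zero, map_zero])
        obtain ⟨⟨_, k, rfl⟩, hk⟩ := (IsLocalization.map_eq_zero_iff (Submonoid.powers g₁) Γ(X, D) m).1 h0
        refine ⟨k, ?_⟩
        rw [Algebra.smul_def, map_pow]
        exact hk
  show MorphismProperty.isomorphisms Scheme (f ∣_ V)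
  rw [HasAffineProperty.iff_of_isAffine (P := MorphismProperty.isomorphisms Scheme)]
  refine ⟨hV', ?_⟩
  haveI : IsIso (f.app V) := (ConcreteCategory.isIso_iff_bijective _).2 hbij
  haveI : IsIso (f.app (V.ι ''ᵁ ⊤)) := by rw [V.ι_image_top]; infer_instance
  rw [morphismRestrict_appTop]
  exact @IsIso.comp_isIso _ _ _ _ _ _ _ ‹_› (Functor.map_isIso _ _)

/-- A finite flat morphism surjective in codimension zero is surjective. -/
theorem surjective_of_codimZero [IsFinite p] (h : ∀ s : S, ringKrullDim (S.presheaf.stalk s) ≤ 1 → s ∈ Set.range p.base) :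
    Function.Surjective p.base := by
  intro s
  obtain ⟨_, ⟨U, hU, rfl⟩, hsU, -⟩ := S.isBasis_affineOpens.exists_subset_of_mem_open (Set.mem_univ s) isOpen_univ
  let P := (hU.primeIdealOf ⟨s, hsU⟩)
  obtain ⟨q, hq, hqP⟩ := Ideal.exists_minimalPrimes_le (bot_le : (⊥ : Ideal Γ(S, U)) ≤ P.asIdeal)
  haveI : q.IsPrime := hq.1.1
  have h0 := h (hU.fromSpec ⟨q, inferInstance⟩) (by
    rw [ringKrullDim_stalk_fromSpec hU, Ideal.height_eq_zero_iff.2 hq]; norm_num)
  have hsp : hU.fromSpec ⟨q, inferInstance⟩ ⤳ hU.fromSpec P :=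
    ((PrimeSpectrum.le_iff_specializes ⟨q, inferInstance⟩ P).1 hqP).map hU.fromSpec.continuous
  rw [hU.fromSpec_primeIdealOf] at hsp
  exact hsp.mem_closed (p.isClosedMap.isClosed_range) h0

end Groth.Agent.CodimOneIso7
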